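import Groth.Agent.KFlatLib.Ring.LTenLinear
import Groth.Agent.KFlatLib.Ring.EvalPerfect
import Groth.Agent.KFlatLib.Ring.RHomTriangle
import Groth.Agent.KFlatLib.Ring.FiniteShriek
import Groth.Agent.KFlatLib.Ring.ResLBase
import Groth.Agent.PerfGen7.DualFinLen
import Mathlib.Algebra.Homology.DerivedCategory.SingleTriangle

/-!
# Triangles for the right adjoint of restriction to a quotient ring

`RHom(0 → I → A → A/I → 0, ω)`, with the first term the restricted right adjoint.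
-/

set_option autoImplicit false
set_option linter.style.haveILetI false
set_option backward.isDefEq.respectTransparency false

universe u

open CategoryTheory CategoryTheory.Limits Pretriangulated

attribute [local instance] HasDerivedCategory.standard

noncomputable section

namespace Groth.Agent.ShriekTri7

open Groth.Agent.KFlatLib

variable {A : Type u} [CommRing A]

section

variable [DTen.HasLTen A] [DTen.HasRHom A] [DTen.HasLTen₃ A] [DTen.IsSymMonoidal A]

/-- A scalar on the second variable is a scalar on the derived tensor product. -/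
theorem ten_smul_id_right (r : A) (K L : Dual.D A) :
    (DTen.LTen₂ A).map (Prod.mkHom (𝟙 K) (r • 𝟙 L)) = r • 𝟙 _ := by
  have h := (tenFlipIso K).hom.naturality (r • 𝟙 L)
  have h1 : (DTen.tensorRightD A K).map (r • 𝟙 L) = r • 𝟙 _ := ten_smul_id r L K
  rw [h1, Linear.comp_smul, Category.comp_id] at h
  rw [← cancel_mono ((tenFlipIso K).hom.app L), Linear.smul_comp, Category.id_comp]
  exact h

/-- A scalar on the first variable of `RHom` is a scalar. -/
theorem RHomMap_smul_id (r : A) (L M : Dual.D A) :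
    DTen.RHomMap (r • 𝟙 L) M = r • 𝟙 ((DTen.RHomR A L).obj M) := by
  refine ((DTen.rhomAdj A L).homEquiv _ _).symm.injective ?_
  rw [Adjunction.homEquiv_counit, Adjunction.homEquiv_counit]
  show (DTen.LTen₂ A).map (Prod.mkHom (DTen.RHomMap (r • 𝟙 L) M) (𝟙 L)) ≫ DTen.ev L M =
    (DTen.LTen₂ A).map (Prod.mkHom (r • 𝟙 ((DTen.RHomR A L).obj M)) (𝟙 L)) ≫ DTen.ev L M
  rw [DTen.RHom_map_ev, ten_smul_id, ten_smul_id_right]

end

/-- The triangle `RHom(A/I, ω) → ω → RHom(I, ω)`, the first term as restricted right adjoint. -/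
theorem exists_triangle [DTen.HasLTen A] [DTen.HasRHom A] (I : Ideal A) (S : ShortComplex (ModuleCat.{u} A))
    (hS : S.ShortExact) (e₂ : S.X₂ ≅ ModuleCat.of A A) (e₃ : S.X₃ ≅ ModuleCat.of A (A ⧸ I))
    (R : Dual.D A ⥤ Dual.D (A ⧸ I)) (adj : DRing.restrictD (Ideal.Quotient.mk I) ⊣ R) (ω : Dual.D A) :
    ∃ (e : (DTen.RHomR A ((DerivedCategory.singleFunctor (ModuleCat.{u} A) 0).obj S.X₂)).obj ω ≅ ω)
      (u : (DRing.restrictD (Ideal.Quotient.mk I)).obj (R.obj ω) ⟶ ω)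
      (w : (DTen.RHomR A ((DerivedCategory.singleFunctor (ModuleCat.{u} A) 0).obj S.X₁)).obj ω ⟶
        ((DRing.restrictD (Ideal.Quotient.mk I)).obj (R.obj ω))⟦(1 : ℤ)⟧),
      Triangle.mk u (e.inv ≫ DTen.RHomMap ((DerivedCategory.singleFunctor (ModuleCat.{u} A) 0).map S.f) ω) w ∈
        distTriang _ := by
  let Φ := DerivedCategory.singleFunctor (ModuleCat.{u} A) 0
  obtain ⟨c, hc⟩ := exists_triangle_RHomMap hS.singleTriangle hS.singleTriangle_distinguished ω
  obtain ⟨η⟩ := nonempty_resUnit_iso A (A ⧸ I)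
  obtain ⟨γ⟩ := nonempty_res_shriek_iso (Ideal.Quotient.mk I) R adj
  let u₂ : Φ.obj S.X₂ ≅ (DTen.unit A)⟦(0 : ℤ)⟧ := Φ.mapIso e₂ ≪≫
    (DerivedCategory.singleFunctorIsoCompQ (ModuleCat.{u} A) 0).app (ModuleCat.of A A) ≪≫
    ((shiftFunctorZero (Dual.D A) ℤ).app _).symm
  obtain ⟨η₂⟩ := nonempty_RHomR_unit_iso (A := A) 0
  let e : (DTen.RHomR A (Φ.obj S.X₂)).obj ω ≅ ω :=
    ((DTen.RHom A).mapIso u₂.symm.op).app ω ≪≫ η₂.app ω ≪≫
      (shiftFunctorZero' (Dual.D A) (-(0 : ℤ)) neg_zero).app ω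
  let d : (DRing.restrictD (Ideal.Quotient.mk I)).obj (R.obj ω) ≅ (DTen.RHomR A (Φ.obj S.X₃)).obj ω :=
    γ.app ω ≪≫ ((DTen.RHom A).mapIso (Φ.mapIso e₃ ≪≫ η).op).app ω
  refine ⟨e, d.hom ≫ DTen.RHomMap (Φ.map S.g) ω ≫ e.hom, c ≫ d.inv⟦(1 : ℤ)⟧',
    isomorphic_distinguished _ hc _ (Triangle.isoMk _ _ d e.symm (Iso.refl _) ?_ ?_ ?_)⟩
  · show (d.hom ≫ DTen.RHomMap (Φ.map S.g) ω ≫ e.hom) ≫ e.inv = d.hom ≫ DTen.RHomMap (Φ.map S.g) ω
    simp
  · exact Category.comp_id _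
  · refine Eq.trans ?_ (Category.id_comp c).symm
    refine (Category.assoc _ _ _).trans ((congrArg (c ≫ ·) ?_).trans (Category.comp_id c))
    exact (Functor.map_comp _ _ _).symm.trans
      ((congrArg _ d.inv_hom_id).trans (CategoryTheory.Functor.map_id _ _))

variable [IsLocalRing A] [IsNoetherianRing A]

/-- `RHom` from a finite length module to a normalized dualizing complex is its Matlis dual in degree `0`. -/
theorem nonempty_RHomR_iso_matlis [DTen.HasLTen A] [DTen.HasRHom A] {ω : Dual.D A}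
    (hω : Dual.IsDualizing A ω) (hN : Dual.IsNormalized A ω) (M : Type u) [AddCommGroup M] [Module A M]
    (hM : IsFiniteLength A M) (E : Type u) [AddCommGroup E] [Module A E]
    (f : IsLocalRing.ResidueField A →ₗ[A] E) (hf : InjHull.IsInjectiveHull f) :
    Nonempty ((DTen.RHomR A (Dual.inD A M)).obj ω ≅ Dual.inD A (M →ₗ[A] E)) := by
  let X := (DTen.RHomR A (Dual.inD A M)).obj ω
  let H := DerivedCategory.homologyFunctor (ModuleCat.{u} A)
  let σ : ∀ n : ℤ, Dual.inD A M ≅ ((Dual.inD A M)⟦-n⟧)⟦n⟧ := fun n =>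
    ((shiftFunctorCompIsoId (Dual.D A) (-n) n (neg_add_cancel n)).app _).symm
  have hzero : ∀ n : ℤ, n ≠ 0 → IsZero ((H n).obj X) := fun n hn => by
    obtain ⟨e⟩ := exists_hdRHomLEquiv (Dual.inD A M) ω n
    haveI := Groth.Agent.PerfGen7.DualFinLen.subsingleton_hom_finiteLength hN M hM n hn
    haveI : Subsingleton ((Dual.inD A M)⟦-n⟧ ⟶ ω) := ⟨fun g h =>
      (shiftFunctor (Dual.D A) n).map_injective ((cancel_epi (σ n).hom).1 (Subsingleton.elim _ _))⟩
    haveI : Subsingleton (Dual.HD A X n) := e.toEquiv.subsingleton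
    exact ModuleCat.isZero_of_subsingleton _
  haveI : X.IsGE 0 := (DerivedCategory.isGE_iff _ _).2 fun i hi => hzero i (by omega)
  haveI : X.IsLE 0 := (DerivedCategory.isLE_iff _ _).2 fun i hi => hzero i (by omega)
  obtain ⟨N, ⟨eN⟩⟩ := DerivedCategory.exists_iso_singleFunctor_obj_of_isGE_of_isLE X 0
  obtain ⟨e0⟩ := exists_hdRHomLEquiv (Dual.inD A M) ω 0
  obtain ⟨μ⟩ := Groth.Agent.PerfGen7.DualFinLen.exists_matlis hω hN E f hf M hM
  let l₁ : Dual.HD A X 0 ≃ₗ[A] (M →ₗ[A] E) := e0.trans ((Linear.homCongr A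
    ((shiftFunctorZero' (Dual.D A) (-(0 : ℤ)) neg_zero).app (Dual.inD A M)) (Iso.refl ω)).trans μ)
  let l₂ : Dual.HD A X 0 ≃ₗ[A] N := ((H 0).mapIso eN ≪≫
    (DerivedCategory.singleFunctorCompHomologyFunctorIso (ModuleCat.{u} A) 0).app N).toLinearEquiv
  exact ⟨eN ≪≫ (DerivedCategory.singleFunctor (ModuleCat.{u} A) 0).mapIso
    (l₂.symm.trans l₁).toModuleIso⟩

end Groth.Agent.ShriekTri7
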